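import Groth.Agent.BELib.Depth
import Groth.Agent.NewIntersectLib.Regular
import Groth.Agent.DepthLib.AB

/-! # The Auslander–Buchsbaum formula -/

set_option autoImplicit false
universe u

open IsLocalRing RingTheory.Sequence CommAlgDim
open scoped Pointwise

namespace Groth.Agent.BELib

section
variable {R : Type u} [CommRing R] [IsLocalRing R] [IsNoetherianRing R]

theorem hasSeqIn_quot_iff {M : Type u} [AddCommGroup M] [Module R M] [Module.Finite R M] {x : R}
    (hx : x ∈ maximalIdeal R) (hxM : IsSMulRegular M x) (k : ℕ) :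
    HasSeqIn (maximalIdeal R) (QuotSMulTop x M) k ↔ HasSeqIn (maximalIdeal R) M (k + 1) :=
  ⟨fun h => hasSeqIn_succ_of_cons hx hxM h, fun h => h.quotSMulTop hx hxM⟩

theorem depth_eq_iff {M : Type u} [AddCommGroup M] [Module R M] [Module.Finite R M] (d : ℕ) :
    LocCoh.depth R M = d ↔ HasSeqIn (maximalIdeal R) M d ∧ ¬ HasSeqIn (maximalIdeal R) M (d + 1) := by
  rw [← le_depth_iff (R := R) (M := M) d, ← le_depth_iff (R := R) (M := M) (d + 1)]
  constructor
  · intro h
    rw [h]
    exact ⟨le_rfl, by norm_cast; omega⟩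
  · rintro ⟨h1, h2⟩
    refine le_antisymm ?_ h1
    push_cast at h2
    exact Order.le_of_lt_succ (lt_of_not_ge (by simpa [Order.succ_eq_add_one] using h2))
end

theorem depth_add_pd : ∀ (d : ℕ) (R : Type u) [CommRing R] [IsLocalRing R] [IsNoetherianRing R],
    LocCoh.depth R R = d → ∀ (M : Type u) [AddCommGroup M] [Module R M] [Module.Finite R M] [Nontrivial M]
    (e : ℕ), PDLT R M (e + 1) → ¬ PDLT R M e → e ≤ d ∧ LocCoh.depth R M = (d - e : ℕ) := by
  intro d
  induction d with
  | zero =>
    intro R _ _ _ hd M _ _ _ _ e he hne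
    have h1 := NewIntersectLib.pdlt_depth_succ M hd (e + 1) he
    have he0 : e = 0 := by
      by_contra h
      exact hne (h1.mono (by omega))
    subst he0
    refine ⟨le_rfl, (depth_eq_iff _).2 ⟨hasSeqIn_zero _, fun h => ?_⟩⟩
    obtain ⟨rs, hl, hm, hr⟩ := h
    obtain ⟨x, rfl⟩ := List.length_eq_one_iff.1 hl
    rw [isWeaklyRegular_singleton_iff] at hr
    exact absurd (NewIntersectLib.pdlt_depth M hd 1 he (hm x (List.mem_singleton_self x)) hr).1 (lt_irrefl 0)
  | succ d ih =>
    intro R _ _ _ hd M _ _ _ _ e he hne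
    obtain ⟨hR, hR'⟩ := (depth_eq_iff _).1 hd
    -- reduction along an element regular on the ring and on the module
    have red : ∀ (N : Type u) [AddCommGroup N] [Module R N] [Module.Finite R N] [Nontrivial N] (c : ℕ) (x : R),
        x ∈ maximalIdeal R → IsSMulRegular R x → IsSMulRegular N x → PDLT R N (c + 1) → ¬ PDLT R N c →
        c ≤ d ∧ LocCoh.depth R N = ((d - c) + 1 : ℕ) := by
      intro N _ _ _ _ c x hx hxR hxN hc hnc
      haveI : Nontrivial (R ⧸ Ideal.span {x}) := Ideal.Quotient.nontrivial_iff.mpr
        (ne_top_of_le_ne_top (maximalIdeal.isMaximal R).ne_top ((Ideal.span_singleton_le_iff_mem _).2 hx))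
      haveI : IsLocalRing (R ⧸ Ideal.span {x}) := IsLocalRing.of_surjective' _ Ideal.Quotient.mk_surjective
      haveI : Module.Finite (R ⧸ Ideal.span {x}) (QuotSMulTop x N) :=
        Module.Finite.of_restrictScalars_finite R _ _
      have hsur : Function.Surjective (algebraMap R (R ⧸ Ideal.span {x})) := Ideal.Quotient.mk_surjective
      have hsub : (x • (⊤ : Submodule R R)) = Ideal.span {x} := by
        rw [← Submodule.ideal_span_singleton_smul, smul_eq_mul, Ideal.mul_top]
      have hring : ∀ k, HasSeqIn (maximalIdeal (R ⧸ Ideal.span {x})) (R ⧸ Ideal.span {x}) k ↔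
          HasSeqIn (maximalIdeal R) R (k + 1) := fun k => by
        rw [← DepthLib.hasSeqIn_of_surjective hsur (R ⧸ Ideal.span {x}) k, ← hasSeqIn_quot_iff hx hxR k]
        exact ⟨fun h => h.congr (Submodule.quotEquivOfEq _ _ hsub).symm,
          fun h => h.congr (Submodule.quotEquivOfEq _ _ hsub)⟩
      have hd' : LocCoh.depth (R ⧸ Ideal.span {x}) (R ⧸ Ideal.span {x}) = d :=
        (depth_eq_iff _).2 ⟨(hring d).2 hR, fun h => hR' ((hring (d + 1)).1 h)⟩
      haveI : Nontrivial (QuotSMulTop x N) := Submodule.Quotient.nontrivial_iff.2 fun h =>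
        (Submodule.top_ne_pointwise_smul_of_mem_jacobson_annihilator
          (IsLocalRing.maximalIdeal_le_jacobson _ hx)) h.symm
      have hne' : ¬ PDLT (R ⧸ Ideal.span {x}) (QuotSMulTop x N) c := by
        intro h
        cases c with
        | zero =>
          haveI := h
          exact not_subsingleton (QuotSMulTop x N) (ModuleCat.subsingleton_of_isZero
            (M := ModuleCat.of (R ⧸ Ideal.span {x}) (QuotSMulTop x N))
            (CategoryTheory.isZero_of_hasProjectiveDimensionLT_zero _))
        | succ c => exact hnc ((CommAlgDim.pdlt_quotSMulTop_iff hx hxR c N hxN).1 h)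
      obtain ⟨h1, h2⟩ := ih (R ⧸ Ideal.span {x}) hd' (QuotSMulTop x N) c
        ((CommAlgDim.pdlt_quotSMulTop_iff hx hxR c N hxN).2 hc) hne'
      refine ⟨h1, (depth_eq_iff _).2 ?_⟩
      obtain ⟨h3, h4⟩ := (depth_eq_iff _).1 h2
      rw [← DepthLib.hasSeqIn_of_surjective hsur, hasSeqIn_quot_iff hx hxN] at h3 h4
      exact ⟨h3, h4⟩
    by_cases hM : HasSeqIn (maximalIdeal R) M 1
    · obtain ⟨x, hx, hxM, hxR⟩ := exists_regular_two hM (hR.mono (by omega))
      obtain ⟨h1, h2⟩ := red M e x hx hxR hxM he hne
      exact ⟨by omega, by rw [h2]; norm_cast; omega⟩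
    · obtain ⟨k, f, hf⟩ := Module.Finite.exists_fin' R M
      have hfree : HasSeqIn (maximalIdeal R) (Fin k → R) 1 := hasSeqIn_pow (hR.mono (by omega)) k
      cases e with
      | zero =>
        exfalso
        haveI := pdlt_one_iff.1 he
        haveI : Module.Free R M := Module.free_of_flat_of_isLocalRing
        exact hM ((hasSeqIn_pow (hR.mono (by omega)) _).congr (Module.finBasis R M).equivFun.symm)
      | succ c =>
        obtain ⟨x, hx, hreg, hxR⟩ := exists_regular_two hfree (hR.mono (by omega))
        have hK : IsSMulRegular (LinearMap.ker f) x := hreg.submodule (LinearMap.ker f) x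
        have hc : PDLT R (LinearMap.ker f) (c + 1) := (pdlt_ker_iff f hf c).1 he
        have hKnt : Nontrivial (LinearMap.ker f) := by
          by_contra h
          rw [not_nontrivial_iff_subsingleton, Submodule.subsingleton_iff_eq_bot] at h
          haveI : Module.Projective R M :=
            Module.Projective.of_equiv (LinearEquiv.ofBijective f ⟨LinearMap.ker_eq_bot.1 h, hf⟩)
          exact hne ((pdlt_one_iff.2 this).mono (by omega))
        have hnc : ¬ PDLT R (LinearMap.ker f) c := by
          intro h
          cases c with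
          | zero =>
            haveI := h
            exact not_subsingleton (LinearMap.ker f) (ModuleCat.subsingleton_of_isZero
              (M := ModuleCat.of R (LinearMap.ker f))
              (CategoryTheory.isZero_of_hasProjectiveDimensionLT_zero _))
          | succ c => exact hne ((pdlt_ker_iff f hf c).2 h)
        obtain ⟨h1, h2⟩ := red (LinearMap.ker f) c x hx hxR hK hc hnc
        obtain ⟨-, h4⟩ := (depth_eq_iff _).1 h2
        have hcd : c = d := by
          by_contra hcd
          refine hM (hasSeqIn_right 1 (LinearMap.ker f) (Fin k → R) M (LinearMap.ker f).subtype f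
            Subtype.val_injective (LinearMap.exact_subtype_ker_map f) hf ?_ hfree)
          exact ((depth_eq_iff _).1 h2).1.mono (by omega)
        exact ⟨by omega, (depth_eq_iff _).2 ⟨by rw [show d + 1 - (c + 1) = 0 by omega]; exact hasSeqIn_zero _,
          by rw [show d + 1 - (c + 1) + 1 = 1 by omega]; exact hM⟩⟩

end Groth.Agent.BELib
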