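import Groth.Agent.BELib.Depth

/-! # The acyclicity lemma -/

set_option autoImplicit false
universe u

open CategoryTheory IsLocalRing RingTheory.Sequence CommAlgDim

namespace Groth.Agent.BELib

variable {R : Type u} [CommRing R] [IsLocalRing R] [IsNoetherianRing R]
  (C : ChainComplex (ModuleCat.{u} R) ℕ)

theorem range_eq_ker_of_exactAt (j : ℕ) (h : C.ExactAt (j + 1)) :
    LinearMap.range (C.d (j + 2) (j + 1)).hom = LinearMap.ker (C.d (j + 1) j).hom := by
  rw [HomologicalComplex.exactAt_iff' C (j + 2) (j + 1) j (by simp) (by simp)] at h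
  exact ((ShortComplex.moduleCat_exact_iff_range_eq_ker _).1 h)

/-- above an exact range the cokernels keep their depth -/
theorem seq_cokernel {e : ℕ} (hzero : ∀ j, e < j → Limits.IsZero (C.X j)) (hfin : ∀ j, Module.Finite R (C.X j))
    (hdepth : ∀ j, j ≤ e → (j : ℕ∞) ≤ LocCoh.depth R (C.X j)) :
    ∀ (t j : ℕ), j + t = e → (∀ l, j < l → C.ExactAt l) → ∀ k, k ≤ j →
      HasSeqIn (maximalIdeal R) (C.X j ⧸ LinearMap.range (C.d (j + 1) j).hom) k := by
  intro t
  induction t with
  | zero =>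
    intro j hj _ k hk
    haveI := hfin j
    haveI := ModuleCat.subsingleton_of_isZero (hzero (j + 1) (by omega))
    have hbot : LinearMap.range (C.d (j + 1) j).hom = ⊥ := by
      rw [eq_bot_iff]
      rintro _ ⟨v, rfl⟩
      rw [Subsingleton.elim v 0, map_zero]
      exact zero_mem _
    exact HasSeqIn.congr (Submodule.quotEquivOfEqBot _ hbot).symm
      (((le_depth_iff j).1 (hdepth j (by omega))).mono hk)
  | succ t ih =>
    intro j hj hex k hk
    haveI := hfin j
    haveI := hfin (j + 1)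
    have hrk : LinearMap.range (C.d (j + 1 + 1) (j + 1)).hom = LinearMap.ker (C.d (j + 1) j).hom :=
      range_eq_ker_of_exactAt C j (hex (j + 1) (by omega))
    let ι : (C.X (j + 1) ⧸ LinearMap.range (C.d (j + 1 + 1) (j + 1)).hom) →ₗ[R] C.X j :=
      Submodule.liftQ _ (C.d (j + 1) j).hom hrk.le
    refine hasSeqIn_right k _ _ _ ι (LinearMap.range (C.d (j + 1) j).hom).mkQ ?_ ?_
      (Submodule.mkQ_surjective _) ?_ (((le_depth_iff j).1 (hdepth j (by omega))).mono hk)
    · rw [← LinearMap.ker_eq_bot]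
      exact Submodule.ker_liftQ_eq_bot _ _ _ hrk.ge
    · rw [LinearMap.exact_iff, Submodule.ker_mkQ, Submodule.range_liftQ]
    · exact ih (j + 1) (by omega) (fun l hl => hex l (by omega)) (k + 1) (by omega)

theorem acyclicity {e : ℕ} (hzero : ∀ j, e < j → Limits.IsZero (C.X j)) (hfin : ∀ j, Module.Finite R (C.X j))
    (hdepth : ∀ j, j ≤ e → (j : ℕ∞) ≤ LocCoh.depth R (C.X j))
    (i : ℕ) (habove : ∀ j, i + 1 < j → C.ExactAt j) (hi : i + 1 ≤ e) :
    (1 : ℕ∞) ≤ LocCoh.depth R (C.homology (i + 1)) := by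
  haveI := hfin (i + 1)
  have hC := seq_cokernel C hzero hfin hdepth (e - (i + 1)) (i + 1) (by omega) habove 1 (by omega)
  let S := C.sc' (i + 2) (i + 1) i
  let iso : C.homology (i + 1) ≅ S.homology :=
    ShortComplex.homologyMapIso (C.isoSc' (i + 2) (i + 1) i (by simp) (by simp))
  let eH : C.homology (i + 1) ≃ₗ[R] (LinearMap.ker S.g.hom ⧸ LinearMap.range S.moduleCatToCycles) :=
    (iso ≪≫ S.moduleCatHomologyIso).toLinearEquiv
  haveI : Module.Finite R S.X₂ := hfin (i + 1)
  haveI : Module.Finite R (LinearMap.ker S.g.hom ⧸ LinearMap.range S.moduleCatToCycles) := by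
    haveI : Module.Finite R (LinearMap.ker S.g.hom) := Module.Finite.iff_fg.2 (IsNoetherian.noetherian _)
    exact Module.Finite.quotient R _
  rw [CommAlgDim.depth_congr eH]
  refine (le_depth_iff 1).2 (hasSeqIn_one_of_socle fun c hc => ?_)
  obtain ⟨z, rfl⟩ := Submodule.Quotient.mk_surjective _ c
  rw [Submodule.Quotient.mk_eq_zero]
  let zz : C.X (i + 1) := Subtype.val z
  have hmem : zz ∈ LinearMap.range (C.d (i + 1 + 1) (i + 1)).hom := by
    rw [← Submodule.Quotient.mk_eq_zero]
    refine socle_eq_zero hC _ fun a ha => ?_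
    rw [← Submodule.Quotient.mk_smul, Submodule.Quotient.mk_eq_zero]
    have := hc a ha
    rw [← Submodule.Quotient.mk_smul, Submodule.Quotient.mk_eq_zero] at this
    obtain ⟨v, hv⟩ := this
    exact ⟨v, congrArg Subtype.val hv⟩
  obtain ⟨v, hv⟩ := hmem
  exact ⟨v, Subtype.ext hv⟩

end Groth.Agent.BELib
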