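import Groth.Agent.BELib.Crit
import Groth.Agent.NewIntersectLib.Regular

/-! # The Buchsbaum–Eisenbud criterion: necessity -/

set_option autoImplicit false
universe u

open IsLocalRing RingTheory.Sequence Matrix CommAlgDim

namespace Groth.Agent.BELib

variable {R : Type u} [CommRing R] {e : ℕ} {n : ℕ → ℕ}
  {A : (i : ℕ) → Matrix (Fin (n i)) (Fin (n (i + 1))) R}

section Local
variable [IsLocalRing R] [IsNoetherianRing R]

theorem exists_retraction {p : ℕ} (N : Submodule R (Fin p → R)) [Module.Projective R ((Fin p → R) ⧸ N)] :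
    ∃ π : (Fin p → R) →ₗ[R] N, ∀ x : N, π x = x := by
  obtain ⟨σ, hσ⟩ := Module.projective_lifting_property N.mkQ LinearMap.id (Submodule.mkQ_surjective N)
  have hmem : ∀ v : Fin p → R, ((LinearMap.id : (Fin p → R) →ₗ[R] (Fin p → R)) - σ ∘ₗ N.mkQ) v ∈ N := fun v => by
    rw [← Submodule.Quotient.mk_eq_zero, ← Submodule.mkQ_apply]
    show N.mkQ (v - σ (N.mkQ v)) = 0
    rw [map_sub]
    have := LinearMap.congr_fun hσ (N.mkQ v)
    rw [LinearMap.comp_apply, LinearMap.id_apply] at this
    rw [this, sub_self]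
  refine ⟨LinearMap.codRestrict N _ hmem, fun x => Subtype.ext ?_⟩
  show (x : Fin p → R) - σ (N.mkQ x) = x
  rw [Submodule.mkQ_apply, (Submodule.Quotient.mk_eq_zero N).2 x.2, map_zero, sub_zero]

omit [IsNoetherianRing R] in
/-- minors of a matrix whose image is a free direct summand -/
theorem minors_of_summand {p q r : ℕ} (D : Matrix (Fin p) (Fin q) R)
    (b : Module.Basis (Fin r) R (LinearMap.range D.mulVecLin))
    (π : (Fin p → R) →ₗ[R] LinearMap.range D.mulVecLin) (hπ : ∀ x : LinearMap.range D.mulVecLin, π x = x) :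
    CAlgX.minorIdeal D (r + 1) = ⊥ ∧ CAlgX.minorIdeal D r = ⊤ := by
  classical
  let N := LinearMap.range D.mulVecLin
  let u : (Fin r → R) →ₗ[R] (Fin p → R) := N.subtype ∘ₗ b.equivFun.symm.toLinearMap
  let l : (Fin p → R) →ₗ[R] (Fin r → R) := b.equivFun.toLinearMap ∘ₗ π
  let v : (Fin q → R) →ₗ[R] (Fin r → R) := b.equivFun.toLinearMap ∘ₗ D.mulVecLin.rangeRestrict
  have hlu : l ∘ₗ u = LinearMap.id := LinearMap.ext fun x => by
    show b.equivFun (π ((b.equivFun.symm x : N) : Fin p → R)) = x
    rw [hπ, LinearEquiv.apply_symm_apply]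
  have huv : u ∘ₗ v = D.mulVecLin := LinearMap.ext fun x => by
    show ((b.equivFun.symm (b.equivFun (D.mulVecLin.rangeRestrict x)) : N) : Fin p → R) = _
    rw [LinearEquiv.symm_apply_apply]
    rfl
  have hv : Function.Surjective v := b.equivFun.surjective.comp D.mulVecLin.surjective_rangeRestrict
  obtain ⟨w, hw⟩ := Module.projective_lifting_property v LinearMap.id hv
  have hD : D = LinearMap.toMatrix' u * LinearMap.toMatrix' v := by
    rw [← LinearMap.toMatrix'_comp, huv, ← Matrix.toLin'_apply', LinearMap.toMatrix'_toLin']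
  constructor
  · rw [hD]
    exact minorIdeal_mul_eq_bot _ _ (by simp)
  · have h1 : LinearMap.toMatrix' l * D * LinearMap.toMatrix' w = 1 := by
      rw [hD, ← Matrix.mul_assoc, ← LinearMap.toMatrix'_comp, hlu, LinearMap.toMatrix'_id, Matrix.one_mul,
        ← LinearMap.toMatrix'_comp, hw, LinearMap.toMatrix'_id]
    rw [Ideal.eq_top_iff_one]
    apply minorIdeal_mul_le_right (LinearMap.toMatrix' l) D r
    apply minorIdeal_mul_le_left (LinearMap.toMatrix' l * D) (LinearMap.toMatrix' w) r
    rw [h1]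
    have := mem_minorIdeal (1 : Matrix (Fin r) (Fin r) R) id id
    simpa using this

variable (hA : ∀ i, i + 2 ≤ e → A i * A (i + 1) = 0)
  (hex : ∀ i, i < e → LinearMap.ker (A i).mulVecLin ≤ bdry e n A (i + 1))

include hA hex in
theorem bdry_succ_eq {i : ℕ} (hi : i < e) : bdry e n A (i + 1) = LinearMap.ker (A i).mulVecLin :=
  le_antisymm (bdry_succ_le hA hi) (hex i hi)

include hA hex in
theorem pdlt_coker_iff {j : ℕ} (hj : j < e) (m : ℕ) :
    PDLT R ((Fin (n j) → R) ⧸ bdry e n A j) (m + 2) ↔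
      PDLT R ((Fin (n (j + 1)) → R) ⧸ bdry e n A (j + 1)) (m + 1) := by
  rw [pdlt_ker_iff (bdry e n A j).mkQ (Submodule.mkQ_surjective _) m]
  refine PDLT.congr ?_
  refine LinearEquiv.ofEq _ _ (by rw [Submodule.ker_mkQ, bdry_of_lt hj]) ≪≫ₗ ?_
  exact (LinearMap.quotKerEquivRange _).symm ≪≫ₗ Submodule.quotEquivOfEq _ _ (bdry_succ_eq hA hex hj).symm

include hA hex in
theorem pdlt_coker : ∀ (t j : ℕ), j + t = e → PDLT R ((Fin (n j) → R) ⧸ bdry e n A j) (t + 1) := by
  intro t
  induction t with
  | zero =>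
    intro j hj
    exact (pdlt_one_iff (M := Fin (n j) → R)).2 inferInstance |>.of_equiv
      (Submodule.quotEquivOfEqBot _ (bdry_of_le (by omega))).symm
  | succ t ih =>
    intro j hj
    exact (pdlt_coker_iff hA hex (by omega) t).2 (ih (j + 1) (by omega))

include hA hex in
theorem projective_coker {d : ℕ} (hd : LocCoh.depth R R = d) {j : ℕ} (hdj : d ≤ j) (hje : j ≤ e) :
    Module.Projective R ((Fin (n j) → R) ⧸ bdry e n A j) := by
  have h0 : PDLT R ((Fin (n 0) → R) ⧸ bdry e n A 0) (d + 1) :=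
    NewIntersectLib.pdlt_depth_succ _ hd (e + 1) (pdlt_coker hA hex e 0 (by omega))
  have key : ∀ k, k ≤ e → PDLT R ((Fin (n k) → R) ⧸ bdry e n A k) (d - k + 1) := by
    intro k
    induction k with
    | zero => intro _; simpa using h0
    | succ k ih =>
      intro hk
      have h1 := ih (by omega)
      exact (pdlt_coker_iff hA hex (by omega) (d - (k + 1))).1 (h1.mono (by omega))
  refine pdlt_one_iff.1 ?_
  have := key j hje
  rwa [show d - j = 0 by omega] at this

include hA hex in
/-- the image of a map above the depth of the ring is a free summand of the expected rank -/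
theorem minors_of_exact {d : ℕ} (hd : LocCoh.depth R R = d) : ∀ (t j : ℕ), j + t + 1 = e → d ≤ j →
    ∃ r : ℕ, (r : ℤ) = ∑ s ∈ Finset.Icc (j + 1) e, (-1 : ℤ) ^ (s - (j + 1)) * (n s : ℤ) ∧
      Module.finrank R (LinearMap.range (A j).mulVecLin) = r ∧
      CAlgX.minorIdeal (A j) (r + 1) = ⊥ ∧ CAlgX.minorIdeal (A j) r = ⊤ := by
  have hsum : ∀ j, j < e → d ≤ j →
      Module.finrank R (LinearMap.range (A j).mulVecLin) + Module.finrank R (bdry e n A (j + 1)) = n (j + 1) := by
    intro j hj hdj
    haveI := projective_coker hA hex hd hdj hj.le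
    haveI := projective_coker hA hex hd (show d ≤ j + 1 by omega) (show j + 1 ≤ e by omega)
    obtain ⟨π, hπ⟩ := exists_retraction (bdry e n A (j + 1))
    haveI : Module.Projective R (bdry e n A (j + 1)) :=
      Module.Projective.of_split (bdry e n A (j + 1)).subtype π (LinearMap.ext hπ)
    haveI : Module.Finite R (bdry e n A (j + 1)) := Module.Finite.iff_fg.2 (IsNoetherian.noetherian _)
    haveI : Module.Free R (bdry e n A (j + 1)) := Module.free_of_flat_of_isLocalRing
    haveI : Module.Free R ((Fin (n (j + 1)) → R) ⧸ bdry e n A (j + 1)) := Module.free_of_flat_of_isLocalRing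
    have e1 := (Submodule.quotientEquivOfIsCompl _ _ (LinearMap.isCompl_of_proj hπ))
    have e2 : ((Fin (n (j + 1)) → R) ⧸ bdry e n A (j + 1)) ≃ₗ[R] LinearMap.range (A j).mulVecLin :=
      Submodule.quotEquivOfEq _ _ (bdry_succ_eq hA hex hj) ≪≫ₗ LinearMap.quotKerEquivRange _
    have e3 := Submodule.prodEquivOfIsCompl _ _ (LinearMap.isCompl_of_proj hπ)
    haveI : Module.Free R (LinearMap.ker π) := Module.Free.of_equiv e1
    haveI : Module.Finite R (LinearMap.ker π) := Module.Finite.iff_fg.2 (IsNoetherian.noetherian _)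
    rw [← e2.finrank_eq, e1.finrank_eq, add_comm, ← Module.finrank_prod, e3.finrank_eq, Module.finrank_fin_fun]
  intro t
  induction t using Nat.strong_induction_on with
  | _ t ih =>
  intro j hj hdj
  have hje : j < e := by omega
  haveI := projective_coker hA hex hd hdj hje.le
  rw [bdry_of_lt hje] at *
  obtain ⟨π, hπ⟩ := exists_retraction (LinearMap.range (A j).mulVecLin)
  haveI : Module.Projective R (LinearMap.range (A j).mulVecLin) :=
    Module.Projective.of_split (LinearMap.range (A j).mulVecLin).subtype π (LinearMap.ext hπ)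
  haveI : Module.Finite R (LinearMap.range (A j).mulVecLin) := Module.Finite.iff_fg.2 (IsNoetherian.noetherian _)
  haveI : Module.Free R (LinearMap.range (A j).mulVecLin) := Module.free_of_flat_of_isLocalRing
  refine ⟨_, ?_, rfl, minors_of_summand (A j) (Module.finBasis R _) π hπ⟩
  have h1 := hsum j hje hdj
  rw [alt_sum_succ n (show j + 1 ≤ e by omega)]
  by_cases hj1 : j + 1 < e
  · obtain ⟨r', hr', hr'', -⟩ := ih (t - 1) (by omega) (j + 1) (by omega) (by omega)
    rw [bdry_of_lt hj1, hr''] at h1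
    rw [← hr']
    omega
  · have h2 : Module.finrank R (bdry e n A (j + 1)) = 0 := by
      rw [bdry_of_le (by omega)]
      exact finrank_bot R _
    rw [Finset.Icc_eq_empty (by omega), Finset.sum_empty]
    omega

end Local

section Global
variable [IsNoetherianRing R]
  (hA : ∀ i, i + 2 ≤ e → A i * A (i + 1) = 0)
  (hex : ∀ i, i < e → LinearMap.ker (A i).mulVecLin ≤ bdry e n A (i + 1))

include hA hex in
theorem conditions_at_prime (p : Ideal R) [p.IsPrime] {i : ℕ} (hi : i < e)
    (hd : ¬ HasSeqIn (maximalIdeal (Localization.AtPrime p)) (Localization.AtPrime p) (i + 1)) :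
    ∃ r : ℕ, (r : ℤ) = ∑ s ∈ Finset.Icc (i + 1) e, (-1 : ℤ) ^ (s - (i + 1)) * (n s : ℤ) ∧
      (CAlgX.minorIdeal (A i) (r + 1)).map (algebraMap R (Localization.AtPrime p)) = ⊥ ∧
      (CAlgX.minorIdeal (A i) r).map (algebraMap R (Localization.AtPrime p)) = ⊤ := by
  let S := Localization.AtPrime p
  let θ := algebraMap R S
  let A' : (i : ℕ) → Matrix (Fin (n i)) (Fin (n (i + 1))) S := fun i => (A i).map θ
  have hA' : ∀ i, i + 2 ≤ e → A' i * A' (i + 1) = 0 := fun i hi => by
    simp only [A', ← Matrix.map_mul, hA i hi, Matrix.map_zero _ (map_zero θ)]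
  have hex' : ∀ i, i < e → LinearMap.ker (A' i).mulVecLin ≤ bdry e n A' (i + 1) := by
    intro i hie x hx
    obtain ⟨c, u, hu⟩ := exists_frac p.primeCompl x
    have h1 : θ ∘ (A i *ᵥ u) = θ ∘ (0 : Fin (n i) → R) := by
      rw [← mapMatrix_mulVec, ← hu, Matrix.mulVec_smul, show A' i *ᵥ x = 0 from hx, smul_zero]
      funext l
      exact (map_zero θ).symm
    obtain ⟨d, hd⟩ := exists_smul_eq_of_map_eq p.primeCompl _ _ h1
    have h2 : (d : R) • u ∈ bdry e n A (i + 1) := by
      refine hex i hie ?_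
      rw [LinearMap.mem_ker, map_smul]
      exact hd.trans (smul_zero _)
    have h4 : θ ∘ ((d : R) • u) = (θ (d : R) * θ (c : R)) • x := by
      rw [mul_smul, hu]
      funext l
      simp [θ]
    have h3 : θ ∘ ((d : R) • u) ∈ bdry e n A' (i + 1) := by
      by_cases h : i + 1 < e
      · rw [bdry_of_lt h] at h2 ⊢
        obtain ⟨y, hy⟩ := h2
        exact ⟨θ ∘ y, (mapMatrix_mulVec θ _ _).trans (congrArg (θ ∘ ·) hy)⟩
      · rw [bdry_of_le (by omega), Submodule.mem_bot] at h2 ⊢
        rw [h2]
        funext l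
        exact map_zero θ
    rw [h4] at h3
    exact (Submodule.smul_mem_iff_of_isUnit _
      ((IsLocalization.map_units S d).mul (IsLocalization.map_units S c))).1 h3
  obtain ⟨d, hd'⟩ := NewIntersectLib.exists_depth (A := S)
  have hdi : d ≤ i := by
    by_contra hlt
    refine hd ((CommAlgDim.le_depth_iff (R := S) (M := S) (i + 1)).1 ?_)
    rw [hd']
    exact_mod_cast (by omega : i + 1 ≤ d)
  obtain ⟨r, hr, -, h0, h1⟩ := minors_of_exact hA' hex' hd' (e - i - 1) i (by omega) hdi
  exact ⟨r, hr, (minorIdeal_map θ (A i) _).symm.trans h0, (minorIdeal_map θ (A i) _).symm.trans h1⟩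

include hA hex in
/-- necessity of the criterion -/
theorem conditions_of_exact [Nontrivial R] {i : ℕ} (hi : i < e) :
    (CAlgX.matrixRank (A i) : ℤ) = ∑ s ∈ Finset.Icc (i + 1) e, (-1 : ℤ) ^ (s - (i + 1)) * (n s : ℤ) ∧
      (CAlgX.detIdeal (A i) = ⊤ ∨ ∃ rs : List R, rs.length = i + 1 ∧ (∀ r ∈ rs, r ∈ CAlgX.detIdeal (A i)) ∧
        IsRegular R rs) := by
  have hass : ∀ p ∈ associatedPrimes R R, ∀ (_ : p.IsPrime),
      ¬ HasSeqIn (maximalIdeal (Localization.AtPrime p)) (Localization.AtPrime p) (i + 1) := by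
    intro p hp _ h
    let eS : LocalizedModule p.primeCompl R ≃ₗ[Localization.AtPrime p] Localization.AtPrime p :=
      LinearEquiv.extendScalarsOfIsLocalization p.primeCompl (Localization.AtPrime p)
        (IsLocalizedModule.linearEquiv p.primeCompl (LocalizedModule.mkLinearMap p.primeCompl R)
          (Algebra.linearMap R (Localization.AtPrime p)))
    exact maximalIdeal_notMem_of_hasSeqIn_one ((h.mono (by omega)).congr eS.symm) hp
  obtain ⟨p₀, hp₀⟩ := associatedPrimes.nonempty R R
  haveI := hp₀.isPrime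
  obtain ⟨r, hr, -, h1⟩ := conditions_at_prime hA hex p₀ hi (hass p₀ hp₀ inferInstance)
  have hne : CAlgX.minorIdeal (A i) r ≠ ⊥ := fun h => by
    rw [h, Ideal.map_bot] at h1
    exact bot_ne_top h1
  have hbot : CAlgX.minorIdeal (A i) (r + 1) = ⊥ := by
    rw [eq_bot_iff]
    intro a ha
    rw [Ideal.mem_bot]
    by_contra ha0
    obtain ⟨p, hp, hle⟩ : ∃ p ∈ associatedPrimes R R, ∀ t : R, t * a = 0 → t ∈ p := by
      obtain ⟨p, hp, hle⟩ := exists_le_isAssociatedPrime_of_isNoetherianRing R a ha0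
      exact ⟨p, hp, fun t ht => hle (by rw [Submodule.mem_colon_singleton, Submodule.mem_bot]; exact ht)⟩
    haveI := hp.isPrime
    obtain ⟨r', hr', h0', -⟩ := conditions_at_prime hA hex p hi (hass p hp inferInstance)
    obtain rfl : r' = r := by exact_mod_cast hr'.trans hr.symm
    have := Ideal.mem_map_of_mem (algebraMap R (Localization.AtPrime p)) ha
    rw [h0', Ideal.mem_bot, IsLocalization.map_eq_zero_iff p.primeCompl] at this
    obtain ⟨t, ht⟩ := this
    exact t.2 (hle t ht)
  have hrank := matrixRank_eq (A i) hne hbot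
  refine ⟨by rw [hrank]; exact hr, ?_⟩
  rw [CAlgX.detIdeal, hrank]
  by_cases htop : CAlgX.minorIdeal (A i) r = ⊤
  · exact Or.inl htop
  right
  obtain ⟨rs, hl, hm, hreg⟩ := hasSeqIn_of_forall_localization (I := CAlgX.minorIdeal (A i) r) (i + 1) R
    fun p _ hle => by
      by_contra hnot
      let eS : LocalizedModule p.primeCompl R ≃ₗ[Localization.AtPrime p] Localization.AtPrime p :=
        LinearEquiv.extendScalarsOfIsLocalization p.primeCompl (Localization.AtPrime p)
          (IsLocalizedModule.linearEquiv p.primeCompl (LocalizedModule.mkLinearMap p.primeCompl R)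
            (Algebra.linearMap R (Localization.AtPrime p)))
      obtain ⟨r', hr', -, h1'⟩ := conditions_at_prime hA hex p hi (fun h => hnot (h.congr eS.symm))
      obtain rfl : r' = r := by exact_mod_cast hr'.trans hr.symm
      have := Ideal.map_mono (f := algebraMap R (Localization.AtPrime p)) hle
      rw [h1', Localization.AtPrime.map_eq_maximalIdeal, top_le_iff] at this
      exact (maximalIdeal.isMaximal _).ne_top this
  refine ⟨rs, hl, hm, hreg, fun h => htop ?_⟩
  rw [eq_top_iff]
  have hle : Ideal.ofList rs ≤ CAlgX.minorIdeal (A i) r := Ideal.span_le.2 hm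
  rw [smul_eq_mul, Ideal.mul_top] at h
  exact h ▸ hle

end Global

end Groth.Agent.BELib
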