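import Groth.Prelude.Def_CAlgX
import Mathlib

/-! # Matrices with a unit minor and vanishing larger minors -/

set_option autoImplicit false
universe u v

open Matrix

namespace Groth.Agent.BELib

section Expand
variable {R : Type u} [CommRing R]

/-- expanding the determinant of a product along the rows of the left factor -/
theorem det_mul_mem {m κ : Type*} [Fintype m] [DecidableEq m] [Fintype κ]
    (A : Matrix m κ R) (B : Matrix κ m R) :
    (A * B).det ∈ Ideal.span (Set.range fun φ : m → κ => (B.submatrix φ id).det) := by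
  classical
  have h1 : (A * B).det = ∑ φ : m → κ, (∏ a, A a (φ a)) * (B.submatrix φ id).det := by
    have h0 : (A * B : Matrix m m R) = fun a => ∑ l, A a l • B l := by
      funext a b
      simp [Matrix.mul_apply, Finset.sum_apply]
    show Matrix.detRowAlternating (A * B : Matrix m m R) = _
    rw [h0]
    refine ((Matrix.detRowAlternating (R := R) (n := m)).toMultilinearMap.map_sum
      (fun a l => A a l • B l)).trans (Finset.sum_congr rfl fun φ _ => ?_)
    rw [MultilinearMap.map_smul_univ, smul_eq_mul]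
    rfl
  rw [h1]
  exact Ideal.sum_mem _ fun φ _ => Ideal.mul_mem_left _ _ (Ideal.subset_span ⟨φ, rfl⟩)

variable {m n : Type} [Fintype m] [Fintype n] {m' n' : Type} [Fintype m'] [Fintype n']

theorem minorIdeal_zero (A : Matrix m n R) : CAlgX.minorIdeal A 0 = ⊤ := by
  rw [Ideal.eq_top_iff_one]
  exact Ideal.subset_span ⟨(Fin.elim0, Fin.elim0), by simp⟩

theorem mem_minorIdeal (A : Matrix m n R) {r : ℕ} (f : Fin r → m) (g : Fin r → n) :
    (A.submatrix f g).det ∈ CAlgX.minorIdeal A r :=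
  Ideal.subset_span ⟨(f, g), rfl⟩

theorem minorIdeal_succ_le (A : Matrix m n R) (r : ℕ) :
    CAlgX.minorIdeal A (r + 1) ≤ CAlgX.minorIdeal A r := by
  refine Ideal.span_le.2 ?_
  rintro _ ⟨⟨f, g⟩, rfl⟩
  show (A.submatrix f g).det ∈ _
  rw [Matrix.det_succ_row_zero]
  refine Ideal.sum_mem _ fun j _ => Ideal.mul_mem_left _ _ ?_
  rw [Matrix.submatrix_submatrix]
  exact mem_minorIdeal A _ _

theorem minorIdeal_antitone (A : Matrix m n R) : Antitone (CAlgX.minorIdeal A) :=
  antitone_nat_of_succ_le (minorIdeal_succ_le A)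

theorem minorIdeal_eq_bot_of_card_lt (A : Matrix m n R) {r : ℕ} (h : Fintype.card m < r) :
    CAlgX.minorIdeal A r = ⊥ := by
  rw [CAlgX.minorIdeal, Ideal.span_eq_bot]
  rintro _ ⟨⟨f, g⟩, rfl⟩
  obtain ⟨a, b, hab, he⟩ := Fintype.exists_ne_map_eq_of_card_lt f (by simpa using h)
  exact Matrix.det_zero_of_row_eq hab (by funext c; simp [he])

theorem bddAbove_rank (A : Matrix m n R) : BddAbove {r : ℕ | CAlgX.minorIdeal A r ≠ ⊥} :=
  ⟨Fintype.card m, fun r hr => not_lt.1 fun h => hr (minorIdeal_eq_bot_of_card_lt A h)⟩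

theorem minorIdeal_succ_rank (A : Matrix m n R) : CAlgX.minorIdeal A (CAlgX.matrixRank A + 1) = ⊥ := by
  by_contra h
  have := le_csSup (bddAbove_rank A) (show CAlgX.matrixRank A + 1 ∈ {r : ℕ | CAlgX.minorIdeal A r ≠ ⊥} from h)
  simp only [CAlgX.matrixRank] at this
  omega

theorem matrixRank_eq (A : Matrix m n R) {r : ℕ} (h1 : CAlgX.minorIdeal A r ≠ ⊥)
    (h2 : CAlgX.minorIdeal A (r + 1) = ⊥) : CAlgX.matrixRank A = r := by
  refine le_antisymm (csSup_le ⟨r, h1⟩ fun s hs => ?_) (le_csSup (bddAbove_rank A) h1)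
  by_contra hlt
  exact hs (eq_bot_iff.2 ((minorIdeal_antitone A (show r + 1 ≤ s by omega)).trans h2.le))

theorem minorIdeal_map {S : Type v} [CommRing S] (θ : R →+* S) (A : Matrix m n R) (r : ℕ) :
    CAlgX.minorIdeal (A.map θ) r = (CAlgX.minorIdeal A r).map θ := by
  rw [CAlgX.minorIdeal, CAlgX.minorIdeal, Ideal.map_span, ← Set.range_comp]
  congr 2
  funext fg
  rw [Function.comp_apply, RingHom.map_det, RingHom.mapMatrix_apply, Matrix.submatrix_map]

/-- minors of a product -/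
theorem minorIdeal_mul_le_right {κ : Type} [Fintype κ] (A : Matrix m κ R) (B : Matrix κ n R) (r : ℕ) :
    CAlgX.minorIdeal (A * B) r ≤ CAlgX.minorIdeal B r := by
  refine Ideal.span_le.2 ?_
  rintro _ ⟨⟨f, g⟩, rfl⟩
  show ((A * B).submatrix f g).det ∈ _
  rw [Matrix.submatrix_mul A B f id g Function.bijective_id]
  refine (Ideal.span_le.2 ?_) (det_mul_mem (A.submatrix f id) (B.submatrix id g))
  rintro _ ⟨φ, rfl⟩
  show ((B.submatrix id g).submatrix φ id).det ∈ _
  rw [Matrix.submatrix_submatrix]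
  exact mem_minorIdeal B _ _

theorem minorIdeal_transpose (A : Matrix m n R) (r : ℕ) :
    CAlgX.minorIdeal A.transpose r = CAlgX.minorIdeal A r := by
  refine le_antisymm (Ideal.span_le.2 ?_) (Ideal.span_le.2 ?_)
  · rintro _ ⟨⟨f, g⟩, rfl⟩
    show (A.transpose.submatrix f g).det ∈ _
    rw [← Matrix.det_transpose, Matrix.transpose_submatrix, Matrix.transpose_transpose]
    exact mem_minorIdeal A _ _
  · rintro _ ⟨⟨f, g⟩, rfl⟩
    show (A.submatrix f g).det ∈ _
    rw [← Matrix.det_transpose, Matrix.transpose_submatrix]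
    exact mem_minorIdeal A.transpose _ _

theorem minorIdeal_mul_le_left {κ : Type} [Fintype κ] (A : Matrix m κ R) (B : Matrix κ n R) (r : ℕ) :
    CAlgX.minorIdeal (A * B) r ≤ CAlgX.minorIdeal A r := by
  rw [← minorIdeal_transpose (A * B), Matrix.transpose_mul, ← minorIdeal_transpose A]
  exact minorIdeal_mul_le_right _ _ r

theorem minorIdeal_mul_eq_bot {κ : Type} [Fintype κ] (A : Matrix m κ R) (B : Matrix κ n R) {r : ℕ}
    (h : Fintype.card κ < r) : CAlgX.minorIdeal (A * B) r = ⊥ :=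
  eq_bot_iff.2 ((minorIdeal_mul_le_right A B r).trans (minorIdeal_eq_bot_of_card_lt B h).le)

end Expand

section Unit
variable {R : Type u} [CommRing R] [IsLocalRing R] {p q : ℕ}

theorem exists_unit_minor (D : Matrix (Fin p) (Fin q) R) {r : ℕ} (h : CAlgX.minorIdeal D r = ⊤) :
    ∃ (f : Fin r → Fin p) (g : Fin r → Fin q), IsUnit (D.submatrix f g).det := by
  by_contra hc
  push_neg at hc
  have hle : CAlgX.minorIdeal D r ≤ IsLocalRing.maximalIdeal R := Ideal.span_le.2 (by
    rintro _ ⟨⟨f, g⟩, rfl⟩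
    exact hc f g)
  exact (IsLocalRing.maximalIdeal.isMaximal R).ne_top (top_le_iff.1 (h ▸ hle))

omit [IsLocalRing R] in
theorem eq_mul_of_unit_minor (D : Matrix (Fin p) (Fin q) R) {r : ℕ}
    (h0 : CAlgX.minorIdeal D (r + 1) = ⊥) (f : Fin r → Fin p) (g : Fin r → Fin q)
    (hu : IsUnit (D.submatrix f g).det) :
    D = D.submatrix id g * (D.submatrix f g)⁻¹ * D.submatrix f id := by
  classical
  letI := (D.submatrix f g).invertibleOfIsUnitDet hu
  ext i l
  let e : Fin (r + 1) ≃ Fin r ⊕ Fin 1 := finSumFinEquiv.symm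
  have h1 : ((Matrix.fromBlocks (D.submatrix f g) (D.submatrix f (fun _ : Fin 1 => l))
      (D.submatrix (fun _ : Fin 1 => i) g) (D.submatrix (fun _ : Fin 1 => i) (fun _ : Fin 1 => l))).det) = 0 := by
    rw [← Matrix.det_submatrix_equiv_self e]
    have hmem := mem_minorIdeal D (Sum.elim f (fun _ : Fin 1 => i) ∘ e) (Sum.elim g (fun _ : Fin 1 => l) ∘ e)
    rw [h0, Ideal.mem_bot] at hmem
    refine Eq.trans ?_ hmem
    congr 1
    ext a b
    simp only [Matrix.submatrix_apply, Function.comp_apply]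
    rcases e a with a' | a' <;> rcases e b with b' | b' <;> rfl
  rw [Matrix.det_fromBlocks₁₁, Matrix.det_fin_one, hu.mul_right_eq_zero, Matrix.sub_apply, sub_eq_zero,
    Matrix.invOf_eq_nonsing_inv] at h1
  exact h1

variable (D : Matrix (Fin p) (Fin q) R) {r : ℕ}

omit [IsLocalRing R] in
theorem surjective_rows (f : Fin r → Fin p) (g : Fin r → Fin q) (hu : IsUnit (D.submatrix f g).det)
    (b : Fin r → R) : ∃ v : Fin q → R, (D *ᵥ v) ∘ f = b := by
  classical
  refine ⟨(1 : Matrix (Fin q) (Fin q) R).submatrix id g *ᵥ ((D.submatrix f g)⁻¹ *ᵥ b), ?_⟩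
  have h1 : D.submatrix f id * (1 : Matrix (Fin q) (Fin q) R).submatrix id g = D.submatrix f g := by
    rw [← Matrix.submatrix_mul _ _ f id g Function.bijective_id, Matrix.mul_one]
  have h2 : ∀ w : Fin q → R, (D *ᵥ w) ∘ f = D.submatrix f id *ᵥ w := fun w => rfl
  rw [h2, Matrix.mulVec_mulVec, h1, Matrix.mulVec_mulVec, Matrix.mul_nonsing_inv _ hu, Matrix.one_mulVec]

omit [IsLocalRing R] in
theorem eq_zero_of_rows (h0 : CAlgX.minorIdeal D (r + 1) = ⊥) (f : Fin r → Fin p) (g : Fin r → Fin q)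
    (hu : IsUnit (D.submatrix f g).det) (v : Fin q → R) (hv : (D *ᵥ v) ∘ f = 0) : D *ᵥ v = 0 := by
  rw [eq_mul_of_unit_minor D h0 f g hu, ← Matrix.mulVec_mulVec]
  have : D.submatrix f id *ᵥ v = 0 := hv
  rw [this, Matrix.mulVec_zero]

/-- the rows of a unit minor give coordinates on the image, which is a direct summand -/
theorem exists_coordinates (h0 : CAlgX.minorIdeal D (r + 1) = ⊥) (h1 : CAlgX.minorIdeal D r = ⊤) :
    ∃ f : Fin r → Fin p, Function.Bijective ((LinearMap.funLeft R R f).comp (LinearMap.range D.mulVecLin).subtype) := by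
  obtain ⟨f, g, hu⟩ := exists_unit_minor D h1
  refine ⟨f, ?_, fun b => ?_⟩
  · rw [← LinearMap.ker_eq_bot, LinearMap.ker_eq_bot']
    rintro ⟨_, v, rfl⟩ hv
    exact Subtype.ext (eq_zero_of_rows D h0 f g hu v hv)
  · obtain ⟨v, hv⟩ := surjective_rows D f g hu b
    exact ⟨⟨_, v, rfl⟩, hv⟩

/-- exactness of two composable maps with unit minors of complementary sizes -/
theorem ker_le_range_of_unit_minors {s : ℕ} (Da : Matrix (Fin p) (Fin q) R) (Db : Matrix (Fin q) (Fin s) R)
    (hab : Da * Db = 0) {ra rb : ℕ} (ha0 : CAlgX.minorIdeal Da (ra + 1) = ⊥) (ha1 : CAlgX.minorIdeal Da ra = ⊤)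
    (hb1 : CAlgX.minorIdeal Db rb = ⊤) (hn : rb + ra = q) :
    LinearMap.ker Da.mulVecLin ≤ LinearMap.range Db.mulVecLin := by
  classical
  obtain ⟨fa, ga, hua⟩ := exists_unit_minor Da ha1
  obtain ⟨fb, gb, hub⟩ := exists_unit_minor Db hb1
  let Ψ : (Fin q → R) →ₗ[R] (Fin rb → R) × (Fin ra → R) :=
    (LinearMap.funLeft R R fb).prod ((LinearMap.funLeft R R fa).comp Da.mulVecLin)
  let e : (Fin q → R) ≃ₗ[R] (Fin rb → R) × (Fin ra → R) :=
    LinearEquiv.funCongrLeft R R ((finSumFinEquiv).trans (finCongr hn)) ≪≫ₗ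
      LinearEquiv.sumArrowLequivProdArrow (Fin rb) (Fin ra) R R
  have hsurj : Function.Surjective Ψ := by
    rintro ⟨a, b⟩
    obtain ⟨v, hv⟩ := surjective_rows Da fa ga hua b
    obtain ⟨w, hw⟩ := surjective_rows Db fb gb hub (a - v ∘ fb)
    refine ⟨v + Db *ᵥ w, Prod.ext ?_ ?_⟩
    · show (v + Db *ᵥ w) ∘ fb = a
      rw [show (v + Db *ᵥ w) ∘ fb = v ∘ fb + (Db *ᵥ w) ∘ fb from rfl, hw, add_sub_cancel]
    · show (Da *ᵥ (v + Db *ᵥ w)) ∘ fa = b
      rw [Matrix.mulVec_add, Matrix.mulVec_mulVec, hab, Matrix.zero_mulVec, add_zero, hv]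
  have hinj := OrzechProperty.injective_of_surjective_of_injective e.toLinearMap Ψ e.injective hsurj
  intro v hv
  obtain ⟨w, hw⟩ := surjective_rows Db fb gb hub (v ∘ fb)
  refine ⟨w, hinj (Prod.ext ?_ ?_)⟩
  · exact hw
  · show (Da *ᵥ (Db *ᵥ w)) ∘ fa = (Da *ᵥ v) ∘ fa
    rw [Matrix.mulVec_mulVec, hab, Matrix.zero_mulVec, show Da *ᵥ v = 0 from hv]

end Unit

end Groth.Agent.BELib
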