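import Groth.Agent.BELib.Depth
import Groth.Agent.BELib.Minor

/-! # The Buchsbaum–Eisenbud criterion: sufficiency -/

set_option autoImplicit false
universe u

open IsLocalRing RingTheory.Sequence Matrix CommAlgDim

namespace Groth.Agent.BELib

variable {R : Type u} [CommRing R]

/-- the boundaries in degree `i` of a complex of length `e` -/
noncomputable def bdry (e : ℕ) (n : ℕ → ℕ) (A : (i : ℕ) → Matrix (Fin (n i)) (Fin (n (i + 1))) R) (i : ℕ) :
    Submodule R (Fin (n i) → R) :=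
  if i < e then LinearMap.range (A i).mulVecLin else ⊥

variable {e : ℕ} {n : ℕ → ℕ} {A : (i : ℕ) → Matrix (Fin (n i)) (Fin (n (i + 1))) R}

theorem bdry_of_lt {i : ℕ} (h : i < e) : bdry e n A i = LinearMap.range (A i).mulVecLin := if_pos h

theorem bdry_of_le {i : ℕ} (h : e ≤ i) : bdry e n A i = ⊥ := if_neg (by omega)

theorem bdry_succ_le (hA : ∀ i, i + 2 ≤ e → A i * A (i + 1) = 0) {i : ℕ} (hi : i < e) :
    bdry e n A (i + 1) ≤ LinearMap.ker (A i).mulVecLin := by
  by_cases h : i + 1 < e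
  · rw [bdry_of_lt h]
    rintro _ ⟨v, rfl⟩
    rw [LinearMap.mem_ker]
    show A i *ᵥ (A (i + 1) *ᵥ v) = 0
    rw [Matrix.mulVec_mulVec, hA i (by omega), Matrix.zero_mulVec]
  · rw [bdry_of_le (by omega)]
    exact bot_le

/-- the rank in the top degree and beyond is zero -/
def rk (e : ℕ) (r : ℕ → ℕ) (i : ℕ) : ℕ := if i < e then r i else 0

section Local
variable [IsLocalRing R] [IsNoetherianRing R] {r : ℕ → ℕ}
  (hA : ∀ i, i + 2 ≤ e → A i * A (i + 1) = 0)
  (h0 : ∀ i, i < e → CAlgX.minorIdeal (A i) (r i + 1) = ⊥)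
  (hd : ∀ i, i < e → CAlgX.minorIdeal (A i) (r i) = ⊤ ∨ HasSeqIn (maximalIdeal R) R (i + 1))

include h0 in
/-- a map with a unit minor has a cokernel with the depth of the ring -/
theorem seq_coker_of_unit {i : ℕ} (hi : i < e) (hu : CAlgX.minorIdeal (A i) (r i) = ⊤) {k : ℕ}
    (hk : HasSeqIn (maximalIdeal R) R k) :
    HasSeqIn (maximalIdeal R) ((Fin (n i) → R) ⧸ bdry e n A i) k := by
  obtain ⟨f, hf⟩ := exists_coordinates (A i) (h0 i hi) hu
  let π := LinearMap.funLeft R R f
  have hc : IsCompl (bdry e n A i) (LinearMap.ker π) := by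
    rw [bdry_of_lt hi]
    refine ⟨disjoint_iff.2 (eq_bot_iff.2 fun v hv => ?_), codisjoint_iff.2 (eq_top_iff.2 fun v _ => ?_)⟩
    · exact (congrArg Subtype.val (hf.1 (a₁ := ⟨v, hv.1⟩) (a₂ := 0)
        (by rw [map_zero]; exact hv.2)) : v = ((0 : LinearMap.range (A i).mulVecLin) : Fin (n i) → R))
    · obtain ⟨w, hw⟩ := hf.2 (π v)
      refine Submodule.mem_sup.2 ⟨w, w.2, v - w, ?_, add_sub_cancel _ _⟩
      rw [LinearMap.mem_ker, map_sub, sub_eq_zero]
      exact hw.symm
  haveI : Module.Projective R (LinearMap.ker π) :=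
    Module.Projective.of_split (LinearMap.ker π).subtype (Submodule.projectionOnto _ _ hc.symm)
      (LinearMap.ext fun x => Submodule.projectionOnto_apply_left hc.symm x)
  haveI : Module.Finite R (LinearMap.ker π) := Module.Finite.iff_fg.2 (IsNoetherian.noetherian _)
  haveI : Module.Free R (LinearMap.ker π) := Module.free_of_flat_of_isLocalRing
  let b := Module.finBasis R (LinearMap.ker π)
  exact HasSeqIn.congr (b.equivFun.symm ≪≫ₗ (Submodule.quotientEquivOfIsCompl _ _ hc).symm) (hasSeqIn_pow hk _)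

include hA h0 hd in
/-- with exactness above degree `j`, the cokernel in degree `j` has depth `≥ min (j, depth R)` -/
theorem seq_coker : ∀ (t j : ℕ), j + t = e →
    (∀ i, j ≤ i → i < e → LinearMap.ker (A i).mulVecLin ≤ bdry e n A (i + 1)) →
    ∀ k, k ≤ j → HasSeqIn (maximalIdeal R) R k →
      HasSeqIn (maximalIdeal R) ((Fin (n j) → R) ⧸ bdry e n A j) k := by
  intro t
  induction t with
  | zero =>
    intro j hj _ k _ hk
    exact HasSeqIn.congr (Submodule.quotEquivOfEqBot _ (bdry_of_le (by omega))).symm (hasSeqIn_pow hk _)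
  | succ t ih =>
    intro j hj hex k hkj hk
    have hje : j < e := by omega
    rcases hd j hje with hu | hseq
    · exact seq_coker_of_unit h0 hje hu hk
    let ι : ((Fin (n (j + 1)) → R) ⧸ bdry e n A (j + 1)) →ₗ[R] (Fin (n j) → R) :=
      (bdry e n A (j + 1)).liftQ (A j).mulVecLin (bdry_succ_le hA hje)
    refine hasSeqIn_right k _ _ _ ι (bdry e n A j).mkQ ?_ ?_ (Submodule.mkQ_surjective _) ?_ (hasSeqIn_pow hk _)
    · rw [← LinearMap.ker_eq_bot]
      exact Submodule.ker_liftQ_eq_bot _ _ _ (hex j le_rfl hje)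
    · rw [LinearMap.exact_iff, Submodule.ker_mkQ, Submodule.range_liftQ, bdry_of_lt hje]
    · exact ih (j + 1) (by omega) (fun i hi hie => hex i (by omega) hie) (k + 1) (by omega)
        (hseq.mono (by omega))

include hA h0 hd in
/-- the homology in degree `j + 1` has no socle when the complex is exact above -/
theorem socle_homology (hn : ∀ i, i < e → r i + rk e r (i + 1) = n (i + 1)) {j : ℕ} (hj : j < e)
    (hex : ∀ i, j < i → i < e → LinearMap.ker (A i).mulVecLin ≤ bdry e n A (i + 1))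
    {v : Fin (n (j + 1)) → R} (hv : A j *ᵥ v = 0) (hm : ∀ a ∈ maximalIdeal R, a • v ∈ bdry e n A (j + 1)) :
    v ∈ bdry e n A (j + 1) := by
  by_cases h1 : HasSeqIn (maximalIdeal R) R 1
  · have h2 := seq_coker hA h0 hd (e - (j + 1)) (j + 1) (by omega) (fun i hi hie => hex i (by omega) hie) 1
      (by omega) h1
    rw [← Submodule.Quotient.mk_eq_zero]
    refine socle_eq_zero h2 _ fun a ha => ?_
    rw [← Submodule.Quotient.mk_smul, Submodule.Quotient.mk_eq_zero]
    exact hm a ha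
  · have hu : ∀ i, i < e → CAlgX.minorIdeal (A i) (r i) = ⊤ := fun i hi =>
      (hd i hi).resolve_right fun h => h1 (h.mono (by omega))
    have hnj := hn j hj
    by_cases hj1 : j + 1 < e
    · rw [bdry_of_lt hj1]
      rw [rk, if_pos hj1] at hnj
      exact ker_le_range_of_unit_minors (A j) (A (j + 1)) (hA j (by omega)) (h0 j hj) (hu j hj) (hu _ hj1)
        (by omega) hv
    · rw [rk, if_neg hj1] at hnj
      rw [bdry_of_le (by omega), Submodule.mem_bot]
      obtain ⟨w, hw⟩ := ker_le_range_of_unit_minors (A j) (0 : Matrix (Fin (n (j + 1))) (Fin 0) R)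
        (Matrix.mul_zero _) (h0 j hj) (hu j hj) (minorIdeal_zero _) (by omega) hv
      rw [← hw]
      simp

end Local

section Global
variable [IsNoetherianRing R]

theorem mapMatrix_mulVec {S : Type u} [CommRing S] (θ : R →+* S) {a b : ℕ} (M : Matrix (Fin a) (Fin b) R)
    (v : Fin b → R) : M.map θ *ᵥ (θ ∘ v) = θ ∘ (M *ᵥ v) := by
  funext i
  exact (RingHom.map_mulVec θ M v i).symm

/-- clearing denominators in the vanishing of a vector -/
theorem exists_smul_eq_of_map_eq {S : Type u} [CommRing S] [Algebra R S] (M : Submonoid R) [IsLocalization M S]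
    {a : ℕ} (u v : Fin a → R) (h : algebraMap R S ∘ u = algebraMap R S ∘ v) :
    ∃ c : M, (c : R) • u = (c : R) • v := by
  classical
  have h1 : ∀ i, ∃ c : M, (c : R) * u i = (c : R) * v i := fun i =>
    (IsLocalization.eq_iff_exists M S).1 (congrFun h i)
  choose c hc using h1
  refine ⟨∏ i, c i, funext fun i => ?_⟩
  obtain ⟨d, hd⟩ : (c i : R) ∣ ((∏ i, c i : M) : R) := by
    rw [Submonoid.coe_finsetProd]
    exact Finset.dvd_prod_of_mem _ (Finset.mem_univ i)
  simp only [Pi.smul_apply, smul_eq_mul, hd]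
  rw [mul_right_comm, hc i, mul_right_comm]

theorem exists_frac {S : Type u} [CommRing S] [Algebra R S] (M : Submonoid R) [IsLocalization M S]
    {a : ℕ} (w : Fin a → S) : ∃ (c : M) (u : Fin a → R), algebraMap R S (c : R) • w = algebraMap R S ∘ u := by
  obtain ⟨c, hc⟩ := IsLocalization.exist_integer_multiples_of_finite M w
  choose u hu using hc
  refine ⟨c, u, funext fun i => ?_⟩
  rw [Function.comp_apply, hu i, Pi.smul_apply, smul_eq_mul, Algebra.smul_def]

/-- sufficiency of the criterion -/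
theorem exact_of_conditions (hA : ∀ i, i + 2 ≤ e → A i * A (i + 1) = 0) {r : ℕ → ℕ}
    (hn : ∀ i, i < e → r i + rk e r (i + 1) = n (i + 1))
    (h0 : ∀ i, i < e → CAlgX.minorIdeal (A i) (r i + 1) = ⊥)
    (hd : ∀ i, i < e → CAlgX.minorIdeal (A i) (r i) = ⊤ ∨ HasSeqIn (CAlgX.minorIdeal (A i) (r i)) R (i + 1)) :
    ∀ i, i < e → LinearMap.ker (A i).mulVecLin ≤ bdry e n A (i + 1) := by
  suffices key : ∀ t i, i + t + 1 = e → LinearMap.ker (A i).mulVecLin ≤ bdry e n A (i + 1) from
    fun i hi => key (e - i - 1) i (by omega)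
  intro t
  induction t using Nat.strong_induction_on with
  | _ t ih =>
  intro j hj v hv
  by_contra hnot
  let K := (Fin (n (j + 1)) → R) ⧸ bdry e n A (j + 1)
  let H : Submodule R K := (LinearMap.ker (A j).mulVecLin).map (bdry e n A (j + 1)).mkQ
  haveI : Nontrivial H := ⟨⟨Submodule.Quotient.mk v, v, hv, rfl⟩, 0, fun h =>
    hnot ((Submodule.Quotient.mk_eq_zero _).1 (congrArg Subtype.val h))⟩
  obtain ⟨p, hp⟩ := associatedPrimes.nonempty R H
  obtain ⟨hpp, ⟨x₀, hwp⟩⟩ := isAssociatedPrime_iff.1 hp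
  obtain ⟨w, hw, hwx⟩ := x₀.2
  have hmem : ∀ a : R, a ∈ p ↔ a • w ∈ bdry e n A (j + 1) := fun a => by
    rw [hwp, Submodule.mem_colon_singleton, Submodule.mem_bot, ← Submodule.coe_eq_zero, Submodule.coe_smul,
      ← hwx, Submodule.mkQ_apply, ← Submodule.Quotient.mk_smul, Submodule.Quotient.mk_eq_zero]
  haveI := hpp
  let S := Localization.AtPrime p
  let θ := algebraMap R S
  let A' : (i : ℕ) → Matrix (Fin (n i)) (Fin (n (i + 1))) S := fun i => (A i).map θ
  have hA' : ∀ i, i + 2 ≤ e → A' i * A' (i + 1) = 0 := fun i hi => by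
    simp only [A', ← Matrix.map_mul, hA i hi, Matrix.map_zero _ (map_zero θ)]
  have h0' : ∀ i, i < e → CAlgX.minorIdeal (A' i) (r i + 1) = ⊥ := fun i hi => by
    rw [minorIdeal_map, h0 i hi, Ideal.map_bot]
  have hd' : ∀ i, i < e → CAlgX.minorIdeal (A' i) (r i) = ⊤ ∨ HasSeqIn (maximalIdeal S) S (i + 1) := by
    intro i hi
    rcases hd i hi with hu | ⟨rs, hl, hrs, hr⟩
    · left; rw [minorIdeal_map, hu, Ideal.map_top]
    by_cases hle : CAlgX.minorIdeal (A i) (r i) ≤ p
    · right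
      refine ⟨rs.map θ, by simpa using hl, fun x hx => ?_,
        IsWeaklyRegular.of_isLocalizedModule S p.primeCompl (Algebra.linearMap R S) hr⟩
      obtain ⟨a, ha, rfl⟩ := List.mem_map.1 hx
      exact (IsLocalization.AtPrime.to_map_mem_maximal_iff S p a).2 (hle (hrs a ha))
    · left
      obtain ⟨a, ha, hap⟩ := Set.not_subset.1 hle
      rw [minorIdeal_map]
      exact Ideal.eq_top_of_isUnit_mem _ (Ideal.mem_map_of_mem θ ha)
        (IsLocalization.map_units S (⟨a, hap⟩ : p.primeCompl))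
  have hb : ∀ i (x : Fin (n i) → R), x ∈ bdry e n A i → θ ∘ x ∈ bdry e n A' i := by
    intro i x hx
    by_cases hi : i < e
    · rw [bdry_of_lt hi] at hx ⊢
      obtain ⟨y, rfl⟩ := hx
      exact ⟨θ ∘ y, mapMatrix_mulVec θ _ _⟩
    · rw [bdry_of_le (by omega), Submodule.mem_bot] at hx ⊢
      subst hx
      funext l
      exact map_zero θ
  have hex : ∀ i, j < i → i < e → LinearMap.ker (A' i).mulVecLin ≤ bdry e n A' (i + 1) := by
    intro i hji hie x hx
    obtain ⟨c, u, hu⟩ := exists_frac p.primeCompl x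
    have h1 : θ ∘ (A i *ᵥ u) = θ ∘ (0 : Fin (n i) → R) := by
      rw [← mapMatrix_mulVec, ← hu, Matrix.mulVec_smul, show A' i *ᵥ x = 0 from hx, smul_zero]
      funext l
      exact (map_zero θ).symm
    obtain ⟨d, hd⟩ := exists_smul_eq_of_map_eq p.primeCompl _ _ h1
    have h2 : (d : R) • u ∈ bdry e n A (i + 1) := by
      refine ih (e - i - 1) (by omega) i (by omega) ?_
      rw [LinearMap.mem_ker, map_smul]
      exact hd.trans (smul_zero _)
    have h3 := hb _ _ h2
    have h4 : θ ∘ ((d : R) • u) = (θ (d : R) * θ (c : R)) • x := by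
      rw [mul_smul, hu]
      funext l
      simp [θ]
    rw [h4] at h3
    have hunit : IsUnit (θ (d : R) * θ (c : R)) := (IsLocalization.map_units S d).mul (IsLocalization.map_units S c)
    exact (Submodule.smul_mem_iff_of_isUnit _ hunit).1 h3
  have hsoc : θ ∘ w ∈ bdry e n A' (j + 1) := by
    refine socle_homology hA' h0' hd' hn (by omega) hex ?_ ?_
    · show (A j).map θ *ᵥ (θ ∘ w) = 0
      rw [mapMatrix_mulVec, show A j *ᵥ w = 0 from hw]
      funext l
      exact map_zero θ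
    · intro a ha
      obtain ⟨x, s, rfl⟩ := IsLocalization.exists_mk'_eq p.primeCompl a
      have hx : x ∈ p := (IsLocalization.AtPrime.mk'_mem_maximal_iff S p x s).1 ha
      have h1 := hb _ _ ((hmem x).1 hx)
      have h2 : IsLocalization.mk' S x s • (θ ∘ w) = IsLocalization.mk' S 1 s • (θ ∘ (x • w)) := by
        funext l
        simp only [Pi.smul_apply, smul_eq_mul, Function.comp_apply, map_mul, ← mul_assoc]
        rw [IsLocalization.mk'_eq_mul_mk'_one x s, mul_comm (θ x)]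
      rw [h2]
      exact Submodule.smul_mem _ _ h1
  obtain ⟨d, hdw⟩ : ∃ d : p.primeCompl, (d : R) • w ∈ bdry e n A (j + 1) := by
    by_cases hi : j + 1 < e
    · rw [bdry_of_lt hi] at hsoc ⊢
      obtain ⟨y, hy⟩ := hsoc
      obtain ⟨c, u, hu⟩ := exists_frac p.primeCompl y
      have h1 : θ ∘ ((c : R) • w) = θ ∘ (A (j + 1) *ᵥ u) := by
        rw [← mapMatrix_mulVec, ← hu, Matrix.mulVec_smul, show A' (j + 1) *ᵥ y = θ ∘ w from hy]
        funext l
        simp [θ]
      obtain ⟨d, hd⟩ := exists_smul_eq_of_map_eq p.primeCompl _ _ h1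
      refine ⟨d * c, (d : R) • u, ?_⟩
      rw [map_smul, Submonoid.coe_mul, mul_smul]
      exact hd.symm
    · rw [bdry_of_le (by omega), Submodule.mem_bot] at hsoc
      have h1 : θ ∘ w = θ ∘ (0 : Fin (n (j + 1)) → R) := by
        rw [hsoc]; funext l; exact (map_zero θ).symm
      obtain ⟨d, hd⟩ := exists_smul_eq_of_map_eq p.primeCompl _ _ h1
      exact ⟨d, by rw [hd, smul_zero]; exact zero_mem _⟩
  exact d.2 ((hmem d).2 hdw)

end Global

end Groth.Agent.BELib

namespace Groth.Agent.BELib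

theorem alt_sum_succ (n : ℕ → ℕ) {e j : ℕ} (h : j ≤ e) :
    (∑ t ∈ Finset.Icc j e, (-1 : ℤ) ^ (t - j) * (n t : ℤ)) =
      (n j : ℤ) - ∑ t ∈ Finset.Icc (j + 1) e, (-1 : ℤ) ^ (t - (j + 1)) * (n t : ℤ) := by
  rw [← Finset.insert_Icc_add_one_left_eq_Icc h, Finset.sum_insert (by simp), Nat.sub_self, pow_zero, one_mul,
    sub_eq_add_neg, ← Finset.sum_neg_distrib]
  congr 1
  refine Finset.sum_congr rfl fun t ht => ?_
  rw [Finset.mem_Icc] at ht
  rw [show t - j = (t - (j + 1)) + 1 by omega, pow_succ]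
  ring

theorem exact_of_rank_detIdeal {R : Type u} [CommRing R] [IsNoetherianRing R]
    (e : ℕ) (he : 1 ≤ e) (n : ℕ → ℕ) (A : (i : ℕ) → Matrix (Fin (n i)) (Fin (n (i + 1))) R)
    (hA : ∀ i, i + 2 ≤ e → A i * A (i + 1) = 0)
    (hrank : ∀ j, 1 ≤ j → j ≤ e →
      (CAlgX.matrixRank (A (j - 1)) : ℤ) = ∑ t ∈ Finset.Icc j e, (-1 : ℤ) ^ (t - j) * (n t : ℤ))
    (hdet : ∀ j, 1 ≤ j → j ≤ e →
      CAlgX.detIdeal (A (j - 1)) = ⊤ ∨
        ∃ rs : List R, rs.length = j ∧ (∀ r ∈ rs, r ∈ CAlgX.detIdeal (A (j - 1))) ∧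
          RingTheory.Sequence.IsRegular R rs) :
    LinearMap.ker (A (e - 1)).mulVecLin = ⊥ ∧
      ∀ i, i + 2 ≤ e → LinearMap.ker (A i).mulVecLin = LinearMap.range (A (i + 1)).mulVecLin := by
  let r : ℕ → ℕ := fun i => CAlgX.matrixRank (A i)
  have hr : ∀ i, i < e → (r i : ℤ) = ∑ t ∈ Finset.Icc (i + 1) e, (-1 : ℤ) ^ (t - (i + 1)) * (n t : ℤ) :=
    fun i hi => hrank (i + 1) (by omega) (by omega)
  have hn : ∀ i, i < e → r i + rk e r (i + 1) = n (i + 1) := by
    intro i hi
    have h1 : (r i : ℤ) = (n (i + 1) : ℤ) - ∑ t ∈ Finset.Icc (i + 1 + 1) e, (-1 : ℤ) ^ (t - (i + 1 + 1)) * (n t : ℤ) :=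
      (hr i hi).trans (alt_sum_succ n (by omega))
    by_cases h : i + 1 < e
    · rw [rk, if_pos h]
      have h2 := hr (i + 1) h
      omega
    · rw [rk, if_neg h]
      rw [Finset.Icc_eq_empty (by omega), Finset.sum_empty] at h1
      omega
  have hd : ∀ i, i < e → CAlgX.minorIdeal (A i) (r i) = ⊤ ∨
      CommAlgDim.HasSeqIn (CAlgX.minorIdeal (A i) (r i)) R (i + 1) := by
    intro i hi
    rcases hdet (i + 1) (by omega) (by omega) with h | ⟨rs, hl, hm, hreg⟩
    · exact Or.inl h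
    · exact Or.inr ⟨rs, hl, hm, hreg.toIsWeaklyRegular⟩
  have hex := exact_of_conditions hA hn (fun i _ => minorIdeal_succ_rank (A i)) hd
  refine ⟨eq_bot_iff.2 ((hex (e - 1) (by omega)).trans (bdry_of_le (by omega)).le), fun i hi => ?_⟩
  refine le_antisymm ((hex i (by omega)).trans (bdry_of_lt (by omega)).le) ?_
  rw [← bdry_of_lt (show i + 1 < e by omega)]
  exact bdry_succ_le hA (by omega)

end Groth.Agent.BELib
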