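import Groth.Agent.CommAlgDim.Depth

/-! # Depth in short exact sequences -/

set_option autoImplicit false
universe u

open IsLocalRing RingTheory.Sequence
open scoped Pointwise

namespace Groth.Agent.BELib

open CommAlgDim

variable {R : Type u} [CommRing R] [IsLocalRing R] [IsNoetherianRing R]

/-- a common regular element of two modules -/
theorem exists_regular_two {A B : Type u} [AddCommGroup A] [Module R A] [Module.Finite R A]
    [AddCommGroup B] [Module R B] [Module.Finite R B]
    (hA : HasSeqIn (maximalIdeal R) A 1) (hB : HasSeqIn (maximalIdeal R) B 1) :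
    ∃ x ∈ maximalIdeal R, IsSMulRegular A x ∧ IsSMulRegular B x := by
  obtain ⟨x, hx, hreg⟩ := exists_isSMulRegular_mem (M := A × B) (I := maximalIdeal R) fun q hq => by
    rw [associatedPrimes.prod] at hq
    rcases hq with hq | hq
    · exact (hasSeqIn_one_iff _).1 hA q hq
    · exact (hasSeqIn_one_iff _).1 hB q hq
  exact ⟨x, hx, fun v w h => congrArg Prod.fst (hreg (show x • ((v, 0) : A × B) = x • (w, 0) from Prod.ext h rfl)),
    fun v w h => congrArg Prod.snd (hreg (show x • ((0, v) : A × B) = x • (0, w) from Prod.ext rfl h))⟩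

/-- depth one means no socle -/
theorem hasSeqIn_one_of_socle {C : Type u} [AddCommGroup C] [Module R C] [Module.Finite R C]
    (h : ∀ c : C, (∀ a ∈ maximalIdeal R, a • c = 0) → c = 0) : HasSeqIn (maximalIdeal R) C 1 := by
  rw [hasSeqIn_one_iff]
  intro p hp hle
  obtain ⟨hpp, f, hf⟩ := (isAssociatedPrime_iff_exists_injective_linearMap p _).1 hp
  have h0 : f 1 = 0 := h _ fun a ha => by
    rw [← map_smul, map_eq_zero_iff f hf, Algebra.smul_def, mul_one, Ideal.Quotient.algebraMap_eq,
      Ideal.Quotient.eq_zero_iff_mem]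
    exact hle ha
  rw [map_eq_zero_iff f hf] at h0
  exact hpp.ne_top ((Ideal.eq_top_iff_one _).2 (Ideal.Quotient.eq_zero_iff_mem.1 h0))

omit [IsNoetherianRing R] in
theorem socle_eq_zero {C : Type u} [AddCommGroup C] [Module R C] (h : HasSeqIn (maximalIdeal R) C 1) (c : C)
    (hc : ∀ a ∈ maximalIdeal R, a • c = 0) : c = 0 := by
  obtain ⟨rs, hl, hm, hr⟩ := h
  obtain ⟨x, rfl⟩ := List.length_eq_one_iff.1 hl
  rw [isWeaklyRegular_singleton_iff] at hr
  exact hr (show x • c = x • (0 : C) by rw [hc x (hm x (List.mem_singleton_self x)), smul_zero])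

omit [IsLocalRing R] [IsNoetherianRing R] in
theorem quot_map_injective {A B C : Type u} [AddCommGroup A] [Module R A] [AddCommGroup B] [Module R B]
    [AddCommGroup C] [Module R C] {f : A →ₗ[R] B} {g : B →ₗ[R] C} (hf : Function.Injective f)
    (hex : Function.Exact f g) {x : R} (hx : IsSMulRegular C x) :
    Function.Injective (QuotSMulTop.map x f) := by
  rw [injective_iff_map_eq_zero]
  intro q hq
  obtain ⟨a, rfl⟩ := Submodule.Quotient.mk_surjective _ q
  rw [QuotSMulTop.map_apply_mk, Submodule.Quotient.mk_eq_zero, Submodule.mem_smul_pointwise_iff_exists] at hq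
  obtain ⟨b, -, hb⟩ := hq
  have hgb : g b = 0 := hx (show x • g b = x • (0 : C) by
    rw [← map_smul, hb, hex.apply_apply_eq_zero, smul_zero])
  obtain ⟨a', rfl⟩ := (hex b).1 hgb
  rw [← map_smul] at hb
  rw [Submodule.Quotient.mk_eq_zero, ← hf hb]
  exact Submodule.smul_mem_pointwise_smul _ _ _ trivial

/-- depth lemma: `depth C ≥ min (depth A - 1, depth B)` -/
theorem hasSeqIn_right : ∀ (n : ℕ) (A B C : Type u) [AddCommGroup A] [Module R A] [Module.Finite R A]
    [AddCommGroup B] [Module R B] [Module.Finite R B] [AddCommGroup C] [Module R C] [Module.Finite R C]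
    (f : A →ₗ[R] B) (g : B →ₗ[R] C), Function.Injective f → Function.Exact f g → Function.Surjective g →
    HasSeqIn (maximalIdeal R) A (n + 1) → HasSeqIn (maximalIdeal R) B n → HasSeqIn (maximalIdeal R) C n := by
  intro n
  induction n with
  | zero => intros; exact hasSeqIn_zero _
  | succ n ih =>
    intro A B C _ _ _ _ _ _ _ _ _ f g hf hex hg hA hB
    obtain ⟨x, hx, hxA, hxB⟩ := exists_regular_two (hA.mono (by omega)) (hB.mono (by omega))
    have hC : HasSeqIn (maximalIdeal R) C 1 := by
      refine hasSeqIn_one_of_socle fun c hc => ?_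
      obtain ⟨b, rfl⟩ := hg c
      obtain ⟨a, ha⟩ := (hex (x • b)).1 (by rw [map_smul, hc x hx])
      have h0 : (Submodule.Quotient.mk a : QuotSMulTop x A) = 0 := by
        refine socle_eq_zero ((hA.mono (by omega : 1 + 1 ≤ n + 1 + 1)).quotSMulTop hx hxA) _ fun t ht => ?_
        obtain ⟨a', ha'⟩ := (hex (t • b)).1 (by rw [map_smul, hc t ht])
        rw [← Submodule.Quotient.mk_smul, Submodule.Quotient.mk_eq_zero,
          show t • a = x • a' from hf (by rw [map_smul, map_smul, ha, ha', smul_comm])]
        exact Submodule.smul_mem_pointwise_smul _ _ _ trivial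
      rw [Submodule.Quotient.mk_eq_zero, Submodule.mem_smul_pointwise_iff_exists] at h0
      obtain ⟨a', -, rfl⟩ := h0
      rw [map_smul] at ha
      rw [← hxB ha]
      exact hex.apply_apply_eq_zero a'
    -- a common regular element of `A`, `B` and `C`
    obtain ⟨y, hy, hyreg⟩ := exists_isSMulRegular_mem (M := A × B × C) (I := maximalIdeal R) fun q hq => by
      rw [associatedPrimes.prod, associatedPrimes.prod] at hq
      rcases hq with hq | hq | hq
      · exact (hasSeqIn_one_iff _).1 (hA.mono (by omega)) q hq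
      · exact (hasSeqIn_one_iff _).1 (hB.mono (by omega)) q hq
      · exact (hasSeqIn_one_iff _).1 hC q hq
    have hyA : IsSMulRegular A y := fun v w h =>
      congrArg Prod.fst (hyreg (show y • ((v, 0, 0) : A × B × C) = y • (w, 0, 0) from Prod.ext h rfl))
    have hyB : IsSMulRegular B y := fun v w h =>
      congrArg (fun t => t.2.1) (hyreg (show y • ((0, v, 0) : A × B × C) = y • (0, w, 0) from
        Prod.ext rfl (Prod.ext h rfl)))
    have hyC : IsSMulRegular C y := fun v w h =>
      congrArg (fun t => t.2.2) (hyreg (show y • ((0, 0, v) : A × B × C) = y • (0, 0, w) from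
        Prod.ext rfl (Prod.ext rfl h)))
    exact hasSeqIn_succ_of_cons hy hyC (ih _ _ _ (QuotSMulTop.map y f) (QuotSMulTop.map y g)
      (quot_map_injective hf hex hyC) (QuotSMulTop.map_exact y hex hg) (QuotSMulTop.map_surjective y hg)
      (hA.quotSMulTop hy hyA) (hB.quotSMulTop hy hyB))

/-- depth lemma: `depth B ≥ min (depth A, depth C)` -/
theorem hasSeqIn_middle : ∀ (n : ℕ) (A B C : Type u) [AddCommGroup A] [Module R A] [Module.Finite R A]
    [AddCommGroup B] [Module R B] [Module.Finite R B] [AddCommGroup C] [Module R C] [Module.Finite R C]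
    (f : A →ₗ[R] B) (g : B →ₗ[R] C), Function.Injective f → Function.Exact f g → Function.Surjective g →
    HasSeqIn (maximalIdeal R) A n → HasSeqIn (maximalIdeal R) C n → HasSeqIn (maximalIdeal R) B n := by
  intro n
  induction n with
  | zero => intros; exact hasSeqIn_zero _
  | succ n ih =>
    intro A B C _ _ _ _ _ _ _ _ _ f g hf hex hg hA hC
    obtain ⟨x, hx, hxA, hxC⟩ := exists_regular_two (hA.mono (by omega)) (hC.mono (by omega))
    have hxB : IsSMulRegular B x := isSMulRegular_of_range_eq_ker hf hex.linearMap_ker_eq.symm hxA hxC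
    exact hasSeqIn_succ_of_cons hx hxB (ih _ _ _ (QuotSMulTop.map x f) (QuotSMulTop.map x g)
      (quot_map_injective hf hex hxC) (QuotSMulTop.map_exact x hex hg) (QuotSMulTop.map_surjective x hg)
      (hA.quotSMulTop hx hxA) (hC.quotSMulTop hx hxC))

/-- finite powers of the ring have at least its depth -/
theorem hasSeqIn_pow {n : ℕ} (h : HasSeqIn (maximalIdeal R) R n) :
    ∀ k : ℕ, HasSeqIn (maximalIdeal R) (Fin k → R) n := by
  intro k
  induction k with
  | zero => exact hasSeqIn_of_subsingleton _ _
  | succ k ih =>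
    let e : (R × (Fin k → R)) ≃ₗ[R] (Fin (k + 1) → R) := Fin.consLinearEquiv R fun _ => R
    refine HasSeqIn.congr e ?_
    exact hasSeqIn_middle n R (R × (Fin k → R)) (Fin k → R) (LinearMap.inl R R _) (LinearMap.snd R R _)
      LinearMap.inl_injective Function.Exact.inl_snd Prod.snd_surjective h ih

end Groth.Agent.BELib
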